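import Mathlib

set_option autoImplicit false

noncomputable section

namespace Groth.Agent.WeilKerLib

open MvPolynomial
open scoped ComplexConjugate

abbrev R2 := MvPolynomial (Fin 2) ℤ

/-- The polynomial `FV - q`. -/
def zeta (q : ℤ) : R2 := X 0 * X 1 - C q

/-- evaluation on the hyperbola -/
def ev (q : ℤ) (x : ℂ) : R2 →ₐ[ℤ] ℂ := MvPolynomial.aeval ![x, (q : ℂ) / x]

/-- `F ↦ 0`, `V ↦ X`. -/
def chi : R2 →ₐ[ℤ] Polynomial ℤ := MvPolynomial.aeval ![0, Polynomial.X]

lemma ev_X0 (q : ℤ) (x : ℂ) : ev q x (X 0) = x := by simp [ev]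

lemma ev_X1 (q : ℤ) (x : ℂ) : ev q x (X 1) = (q : ℂ) / x := by simp [ev]

lemma ev_zeta (q : ℤ) {x : ℂ} (hx : x ≠ 0) : ev q x (zeta q) = 0 := by
  simp only [zeta, map_sub, map_mul, ev_X0, ev_X1]
  simp [mul_div_cancel₀, hx]

lemma ev_eq_zero_of_mem {q : ℤ} {x : ℂ} (hx : x ≠ 0) {f : R2}
    (hf : f ∈ Ideal.span ({zeta q} : Set R2)) : ev q x f = 0 := by
  obtain ⟨a, rfl⟩ := Ideal.mem_span_singleton'.mp hf
  simp [ev_zeta q hx]

lemma ev_poly (q : ℤ) (x : ℂ) (g : Polynomial ℤ) :
    ev q x (Polynomial.aeval (X 0 : R2) g) = Polynomial.aeval x g := by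
  rw [← Polynomial.aeval_algHom_apply, ev_X0]

lemma exists_reduce (q : ℤ) (f : R2) : ∃ (N : ℕ) (g : Polynomial ℤ),
    X 0 ^ N * f - Polynomial.aeval (X 0 : R2) g ∈ Ideal.span ({zeta q} : Set R2) := by
  induction f using MvPolynomial.induction_on with
  | C a => exact ⟨0, Polynomial.C a, by simp⟩
  | add a b ha hb =>
    obtain ⟨N, g, hg⟩ := ha
    obtain ⟨M, k, hk⟩ := hb
    refine ⟨N + M, Polynomial.X ^ M * g + Polynomial.X ^ N * k, ?_⟩
    have := Ideal.add_mem _ (Ideal.mul_mem_left _ (X 0 ^ M) hg) (Ideal.mul_mem_left _ (X 0 ^ N) hk)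
    convert this using 1
    simp only [map_add, map_mul, map_pow, Polynomial.aeval_X]
    ring
  | mul_X a i ha =>
    obtain ⟨N, g, hg⟩ := ha
    fin_cases i
    · refine ⟨N, g * Polynomial.X, ?_⟩
      have := Ideal.mul_mem_right (X 0) _ hg
      convert this using 1
      simp only [map_mul, Polynomial.aeval_X]
      simp
      ring
    · refine ⟨N + 1, g * Polynomial.C q, ?_⟩
      have hz : zeta q ∈ Ideal.span ({zeta q} : Set R2) := Ideal.subset_span rfl
      have := Ideal.add_mem _ (Ideal.mul_mem_right (C q) _ hg)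
        (Ideal.mul_mem_left _ (X 0 ^ N * a) hz)
      convert this using 1
      simp only [map_mul, Polynomial.aeval_C, zeta, MvPolynomial.algebraMap_eq]
      simp
      ring

lemma chi_X0 : chi (X 0) = 0 := by simp [chi]

lemma sub_chi_mem (f : R2) :
    f - Polynomial.aeval (X 1 : R2) (chi f) ∈ Ideal.span ({X 0} : Set R2) := by
  induction f using MvPolynomial.induction_on with
  | C a => simp [chi]
  | add a b ha hb =>
    have := Ideal.add_mem _ ha hb
    convert this using 1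
    simp only [map_add]
    ring
  | mul_X a i ha =>
    fin_cases i
    · have h0 : chi (a * X 0) = 0 := by simp [chi]
      simp only [Fin.zero_eta]
      rw [h0, map_zero, sub_zero]
      exact Ideal.mul_mem_left _ a (Ideal.subset_span rfl)
    · have h1 : chi (a * X 1) = chi a * Polynomial.X := by simp [chi]
      simp only [Fin.mk_one]
      rw [h1, map_mul, Polynomial.aeval_X, ← sub_mul]
      exact Ideal.mul_mem_right _ _ ha

lemma cancel_X0 {q : ℤ} (hq : q ≠ 0) {a : R2}
    (h : X 0 * a ∈ Ideal.span ({zeta q} : Set R2)) : a ∈ Ideal.span ({zeta q} : Set R2) := by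
  obtain ⟨b, hb⟩ := Ideal.mem_span_singleton'.mp h
  have h1 := congrArg chi hb
  simp only [map_mul, chi_X0, zero_mul] at h1
  have hz : chi (zeta q) ≠ 0 := by simp [chi, zeta, hq]
  have hb0 : chi b = 0 := (mul_eq_zero.mp h1).resolve_right hz
  have hb1 := sub_chi_mem b
  rw [hb0, map_zero, sub_zero] at hb1
  obtain ⟨b', rfl⟩ := Ideal.mem_span_singleton'.mp hb1
  have ha : b' * zeta q = a := by
    apply mul_left_cancel₀ (X_ne_zero (0 : Fin 2) : (X 0 : R2) ≠ 0)
    rw [← hb]; ring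
  exact ha ▸ Ideal.mem_span_singleton'.mpr ⟨b', rfl⟩

lemma cancel_X0_pow {q : ℤ} (hq : q ≠ 0) (N : ℕ) {a : R2}
    (h : X 0 ^ N * a ∈ Ideal.span ({zeta q} : Set R2)) : a ∈ Ideal.span ({zeta q} : Set R2) := by
  induction N with
  | zero => simpa using h
  | succ n ih =>
    apply ih
    apply cancel_X0 hq
    convert h using 1
    ring

lemma mem_of_ev {q : ℤ} (hq : q ≠ 0) {f : R2} (S : Set ℂ) (hS : S.Finite)
    (h : ∀ x : ℂ, x ≠ 0 → x ∉ S → ev q x f = 0) : f ∈ Ideal.span ({zeta q} : Set R2) := by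
  obtain ⟨N, g, hg⟩ := exists_reduce q f
  have hg0 : g = 0 := by
    have : g.map (Int.castRingHom ℂ) = 0 := by
      apply Polynomial.eq_zero_of_infinite_isRoot
      apply Set.Infinite.mono (s := (({0} : Set ℂ) ∪ S)ᶜ)
      · intro x hx
        simp only [Set.mem_compl_iff, Set.mem_union, Set.mem_singleton_iff, not_or] at hx
        have h1 := ev_eq_zero_of_mem hx.1 hg
        rw [map_sub, map_mul, h x hx.1 hx.2, mul_zero, zero_sub, neg_eq_zero, ev_poly] at h1
        simpa [Polynomial.IsRoot, Polynomial.eval_map, Polynomial.aeval_def] using h1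
      · exact ((Set.finite_singleton 0).union hS).infinite_compl
    exact (Polynomial.map_eq_zero_iff (Int.cast_injective)).mp this
  rw [hg0, map_zero, sub_zero] at hg
  exact cancel_X0_pow hq N hg

section Weil

variable {q : ℕ} {P : Polynomial ℤ} {D : ℕ}

lemma root_ne_zero (hq : 0 < q) {z : ℂ} (hz : ‖z‖ = Real.sqrt q) : z ≠ 0 := by
  intro h
  rw [h, norm_zero] at hz
  exact (Real.sqrt_pos.mpr (Nat.cast_pos.mpr hq)).ne hz

lemma conj_root {z : ℂ} (hz : ‖z‖ = Real.sqrt q) : z * conj z = (q : ℂ) := by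
  rw [Complex.mul_conj, Complex.normSq_eq_norm_sq, hz, Real.sq_sqrt (Nat.cast_nonneg q)]
  norm_cast

/-- The functional equation. -/
lemma exists_eps (hP : P.Monic) (hD : P.natDegree = 2 * D)
    (hweil : ∀ z ∈ P.aroots ℂ, ‖z‖ = Real.sqrt q) :
    ∃ ε : ℤ, ε * ε = 1 ∧ ∀ x : ℂ, x ≠ 0 →
      x ^ (2 * D) * Polynomial.aeval ((q : ℂ) / x) P
        = (ε : ℂ) * (q : ℂ) ^ D * Polynomial.aeval x P := by
  set Q : Polynomial ℂ := P.map (algebraMap ℤ ℂ) with hQ
  have hs : Q.Splits := IsAlgClosed.splits Q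
  have hQm : Q.Monic := hP.map _
  have hev : ∀ x : ℂ, Polynomial.aeval x P = ((P.aroots ℂ).map (fun z => x - z)).prod := by
    intro x
    rw [Polynomial.aeval_def, ← Polynomial.eval_map, ← hQ,
      hs.eval_eq_prod_roots_of_monic hQm x]
  have hcard : Multiset.card (P.aroots ℂ) = 2 * D := by
    rw [← hD, ← hP.natDegree_map (algebraMap ℤ ℂ)]
    exact hs.natDegree_eq_card_roots.symm
  have hconj : ∀ x : ℂ, ((P.aroots ℂ).map (fun z => x - conj z)).prod = Polynomial.aeval x P := by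
    intro x
    have h1 := congrArg conj (hev (conj x))
    rw [map_multiset_prod, Multiset.map_map] at h1
    have h3 : conj (Polynomial.aeval (conj x) P) = Polynomial.aeval x P := by
      have := Polynomial.aeval_algHom_apply ((starRingEnd ℂ).toIntAlgHom) (conj x) P
      simpa using this.symm
    rw [h3] at h1
    rw [h1]
    congr 1
    apply Multiset.map_congr rfl
    intro z _
    simp
  have hprod : (P.aroots ℂ).prod = (P.coeff 0 : ℂ) := by
    have h := hev 0
    rw [Polynomial.aeval_def, Polynomial.eval₂_at_zero] at h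
    simp only [zero_sub] at h
    rw [Multiset.prod_map_neg, hcard, pow_mul] at h
    simp only [even_two, Even.neg_pow, one_pow, one_mul] at h
    simpa using h.symm
  have hnorm : ‖(P.coeff 0 : ℂ)‖ = ((q ^ D : ℕ) : ℝ) := by
    rw [← hprod, show ‖(P.aroots ℂ).prod‖ = ((P.aroots ℂ).map fun z => ‖z‖).prod from
      map_multiset_prod (normHom : ℂ →*₀ ℝ) _]
    rw [Multiset.map_congr rfl hweil, Multiset.map_const', Multiset.prod_replicate, hcard, pow_mul,
      Real.sq_sqrt (Nat.cast_nonneg q)]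
    push_cast
    ring
  have habs : (P.coeff 0).natAbs = q ^ D := by
    rw [Complex.norm_intCast] at hnorm
    have : ((P.coeff 0).natAbs : ℝ) = ((q ^ D : ℕ) : ℝ) := by
      rw [← hnorm, Nat.cast_natAbs]; push_cast; ring
    exact_mod_cast this
  obtain ⟨ε, hε, hεc⟩ : ∃ ε : ℤ, ε * ε = 1 ∧ P.coeff 0 = ε * (q : ℤ) ^ D := by
    rcases Int.natAbs_eq (P.coeff 0) with h | h
    · exact ⟨1, rfl, by rw [h, habs]; push_cast; ring⟩
    · exact ⟨-1, rfl, by rw [h, habs]; push_cast; ring⟩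
  refine ⟨ε, hε, fun x hx => ?_⟩
  have : x ^ (2 * D) * Polynomial.aeval ((q : ℂ) / x) P
      = ((P.aroots ℂ).map (fun z => (-z) * (x - conj z))).prod := by
    rw [hev, ← hcard, ← Multiset.prod_replicate, ← Multiset.map_const' (P.aroots ℂ) x,
      ← Multiset.prod_map_mul]
    congr 1
    apply Multiset.map_congr rfl
    intro z hz
    rw [← conj_root (hweil z hz)]
    field_simp
    ring
  rw [this, Multiset.prod_map_mul, hconj, Multiset.prod_map_neg, hcard, pow_mul, hprod, hεc]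
  push_cast
  simp

variable (hq : 0 < q) (hP : P.Monic) (hD : P.natDegree = 2 * D)
  (hweil : ∀ z ∈ P.aroots ℂ, ‖z‖ = Real.sqrt q) {h : R2}
  (hh : X 0 ^ D * h - Polynomial.aeval (X 0 : R2) P ∈ Ideal.span ({zeta (q : ℤ)} : Set R2))

include hh in
lemma ev_h {x : ℂ} (hx : x ≠ 0) : x ^ D * ev q x h = Polynomial.aeval x P := by
  have := ev_eq_zero_of_mem hx hh
  rw [map_sub, map_mul, map_pow, ev_X0, ev_poly, sub_eq_zero] at this
  exact this

include hq hP hh in
lemma regular_h {a : R2} (ha : h * a ∈ Ideal.span ({zeta (q : ℤ)} : Set R2)) :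
    a ∈ Ideal.span ({zeta (q : ℤ)} : Set R2) := by
  refine mem_of_ev (by exact_mod_cast hq.ne') {x | x ∈ P.aroots ℂ}
    (by exact (P.aroots ℂ).finite_toSet) fun x hx hxS => ?_
  have h1 := ev_eq_zero_of_mem hx ha
  rw [map_mul] at h1
  refine (mul_eq_zero.mp h1).resolve_left fun h2 => hxS ?_
  have h3 := ev_h hh hx
  rw [h2, mul_zero] at h3
  show x ∈ P.aroots ℂ
  rw [Polynomial.mem_aroots]
  exact ⟨hP.ne_zero, h3.symm⟩

include hq hP hD hweil hh in
lemma V_pow_mul_h : ∃ ε : ℤ, ε * ε = 1 ∧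
    X 1 ^ D * h - C ε * Polynomial.aeval (X 1 : R2) P ∈ Ideal.span ({zeta (q : ℤ)} : Set R2) := by
  obtain ⟨ε, hε, hfe⟩ := exists_eps hP hD hweil
  refine ⟨ε, hε, mem_of_ev (by exact_mod_cast hq.ne') ∅ Set.finite_empty fun x hx _ => ?_⟩
  have h3 := ev_h hh hx
  have h4 := hfe x hx
  have hxD : x ^ D ≠ 0 := pow_ne_zero _ hx
  have hq' : ((q : ℂ)) ≠ 0 := by exact_mod_cast hq.ne'
  rw [map_sub, map_mul, map_mul, map_pow, ev_X1, ← Polynomial.aeval_algHom_apply, ev_X1]
  have hC : ev q x (C ε) = (ε : ℂ) := by simp [ev]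
  rw [hC]
  have he : (ε : ℂ) * ε = 1 := by exact_mod_cast hε
  have h5 : Polynomial.aeval ((q : ℂ) / x) P
      = (ε : ℂ) * (q : ℂ) ^ D * Polynomial.aeval x P / x ^ (2 * D) := by
    rw [← h4]; field_simp
  simp only [Int.cast_natCast]
  rw [h5, ← h3, div_pow, pow_mul']
  field_simp
  linear_combination (-((q : ℂ) ^ D * ev (q : ℤ) x h)) * he

include hq hP hD hweil hh in
lemma cancel_J {a : R2}
    (ha : X 0 * a ∈ Ideal.span ({zeta (q : ℤ), h} : Set R2)) :
    a ∈ Ideal.span ({zeta (q : ℤ), h} : Set R2) := by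
  obtain ⟨ε, hε, hV⟩ := V_pow_mul_h hq hP hD hweil hh
  obtain ⟨b, s, hbs⟩ := Ideal.mem_span_pair.mp ha
  let c : R2 →+* Polynomial (ZMod q) :=
    (Polynomial.mapRingHom (Int.castRingHom (ZMod q))).comp chi.toRingHom
  have hcz : c (zeta (q : ℤ)) = 0 := by simp [c, chi, zeta]
  have hc0 : c (X 0) = 0 := by simp [c, chi]
  have hc1 : c (X 1) = Polynomial.X := by simp [c, chi]
  have h1 : c h * c s = 0 := by
    have := congrArg c hbs
    simp only [map_add, map_mul, hcz, hc0, mul_zero, zero_add, zero_mul] at this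
    rw [mul_comm]; exact this
  have h2 : Polynomial.X ^ D * c h
      = Polynomial.C (ε : ZMod q) * P.map (Int.castRingHom (ZMod q)) := by
    obtain ⟨t, ht⟩ := Ideal.mem_span_singleton'.mp hV
    have := congrArg c ht
    simp only [map_sub, map_mul, map_pow, hcz, hc1, mul_zero] at this
    rw [eq_comm, sub_eq_zero] at this
    rw [this]
    congr 1
    · simp [c, chi]
    · simp only [c, RingHom.comp_apply, AlgHom.toRingHom_eq_coe, RingHom.coe_coe]
      rw [← Polynomial.aeval_algHom_apply]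
      simp [chi]
  have h3 : c s = 0 := by
    have h4 : Polynomial.C (ε : ZMod q) * (P.map (Int.castRingHom (ZMod q)) * c s) = 0 := by
      rw [← mul_assoc, ← h2, mul_assoc, h1, mul_zero]
    have h5 := congrArg (Polynomial.C (ε : ZMod q) * ·) h4
    simp only [mul_zero, ← mul_assoc, ← Polynomial.C_mul] at h5
    have he : (ε : ZMod q) * ε = 1 := by exact_mod_cast congrArg (Int.cast : ℤ → ZMod q) hε
    rw [he, Polynomial.C_1, one_mul] at h5
    exact (hP.map _).mul_right_eq_zero_iff.mp h5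
  obtain ⟨t, ht⟩ : Polynomial.C (q : ℤ) ∣ chi s := by
    rw [Polynomial.C_dvd_iff_dvd_coeff]
    intro i
    have := congrArg (fun f => Polynomial.coeff f i) h3
    simpa [c, ZMod.intCast_zmod_eq_zero_iff_dvd] using this
  have hs := sub_chi_mem s
  obtain ⟨u, hu⟩ := Ideal.mem_span_singleton'.mp hs
  rw [ht, map_mul, Polynomial.aeval_C] at hu
  set T : R2 := Polynomial.aeval (X 1 : R2) t
  have hs' : s = X 0 * (u + X 1 * T) - zeta (q : ℤ) * T := by
    have : s = u * X 0 + C (q : ℤ) * T := by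
      rw [hu, MvPolynomial.algebraMap_eq]; ring
    rw [this, zeta]; ring
  have h6 : a - h * (u + X 1 * T) ∈ Ideal.span ({zeta (q : ℤ)} : Set R2) := by
    apply cancel_X0 (by exact_mod_cast hq.ne')
    rw [Ideal.mem_span_singleton']
    refine ⟨b - T * h, ?_⟩
    rw [mul_sub, ← hbs, hs']
    ring
  have : a = (a - h * (u + X 1 * T)) + h * (u + X 1 * T) := by ring
  rw [this]
  refine Ideal.add_mem _ ?_ ?_
  · exact Ideal.span_mono (by simp) h6
  · exact Ideal.mul_mem_right _ _ (Ideal.subset_span (by simp))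

end Weil

end Groth.Agent.WeilKerLib
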