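import Mathlib

set_option autoImplicit false

noncomputable section

namespace Groth.Agent.WeilKerLib

open TensorProduct

universe u w

/-- An ideal with a partition of unity by functionals is invertible. -/
theorem invertible_ideal {R : Type u} [CommRing R] (J : Ideal R) {σ : Type w} [Fintype σ]
    (f : σ → Module.Dual R J) (e : σ → J) (h : ∑ i, f i (e i) = 1) : Module.Invertible R J := by
  have key : ∀ (g : Module.Dual R J) (x z : J), (z : R) * g x = (x : R) * g z := by
    intro g x z
    have h1 : (z : R) • x = (x : R) • z := by ext; simp [mul_comm]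
    have := congrArg g h1
    simpa using this
  have hexp : ∀ (g : Module.Dual R J) (x : J),
      g ⊗ₜ[R] x = g x • ∑ i, f i ⊗ₜ[R] e i := by
    intro g x
    have h2 : ∀ i, g ⊗ₜ[R] ((f i (e i)) • x) = g x • (f i ⊗ₜ[R] e i) := by
      intro i
      have hx : (f i (e i)) • x = (f i x) • e i := by
        ext
        simp only [SetLike.val_smul, smul_eq_mul]
        rw [mul_comm, key (f i) (e i) x, mul_comm]
      have hg : (f i x) • g = g x • f i := by
        ext z
        simp only [LinearMap.smul_apply, smul_eq_mul]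
        have h1 : (f i x) • z = (f i z) • x := by
          ext
          simp only [SetLike.val_smul, smul_eq_mul]
          rw [mul_comm, key (f i) x z, mul_comm]
        have := congrArg g h1
        simp only [map_smul, smul_eq_mul] at this
        rw [this, mul_comm]
      rw [hx, TensorProduct.tmul_smul, TensorProduct.smul_tmul', hg, ← TensorProduct.smul_tmul']
    calc g ⊗ₜ[R] x = g ⊗ₜ[R] ((∑ i, f i (e i)) • x) := by rw [h, one_smul]
      _ = _ := by simp only [Finset.sum_smul, TensorProduct.tmul_sum, Finset.smul_sum, h2]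
  refine ⟨⟨?_, ?_⟩⟩
  · rw [injective_iff_map_eq_zero]
    intro t ht
    have : ∀ t : Module.Dual R J ⊗[R] J, t = (contractLeft R J t) • ∑ i, f i ⊗ₜ[R] e i := by
      intro t
      induction t using TensorProduct.induction_on with
      | zero => simp
      | tmul g x => rw [contractLeft_apply]; exact hexp g x
      | add a b ha hb =>
        conv_lhs => rw [ha, hb]
        rw [map_add, add_smul]
    rw [this t, ht, zero_smul]
  · intro r
    refine ⟨r • ∑ i, f i ⊗ₜ[R] e i, ?_⟩
    simp [map_sum, contractLeft_apply, h]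

/-- `M` is the pullback of an invertible ideal. -/
theorem exists_preimage {R S : Type u} [CommRing R] [CommRing S] [Algebra R S]
    (hsurj : Function.Surjective (algebraMap R S)) (a : R)
    (ha : ∀ x : R, algebraMap R S x = 0 → a * x = 0)
    (M : Type u) [AddCommGroup M] [Module S M] [Module.Invertible S M]
    (ψ : M →ₗ[S] S) (hψ : Function.Injective ψ)
    (hone : ∃ y, ψ y + algebraMap R S a = 1) :
    ∃ (J : Ideal R) (_ : Module.Invertible R J), Nonempty ((S ⊗[R] J) ≃ₗ[S] M) := by
  classical
  letI : Module R M := Module.compHom M (algebraMap R S)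
  haveI : IsScalarTower R S M := IsScalarTower.of_algebraMap_smul fun _ _ => rfl
  let J : Ideal R := Submodule.comap (Algebra.linearMap R S) ((LinearMap.range ψ).restrictScalars R)
  let e : M ≃ₗ[S] LinearMap.range ψ := LinearEquiv.ofInjective ψ hψ
  have hes : ∀ z : LinearMap.range ψ, ψ (e.symm z) = z.1 := fun z =>
    congrArg Subtype.val (e.apply_symm_apply z)
  let toM : J →ₗ[R] M :=
    { toFun := fun x => e.symm ⟨algebraMap R S x.1, x.2⟩
      map_add' := fun x y => by
        apply hψ; rw [map_add, hes, hes, hes]; simp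
      map_smul' := fun r x => by
        apply hψ
        rw [RingHom.id_apply, ← IsScalarTower.algebraMap_smul S r (e.symm _), map_smul, hes, hes]
        simp }
  have htoM : ∀ x : J, ψ (toM x) = algebraMap R S x.1 := by
    intro x
    have := e.apply_symm_apply ⟨algebraMap R S x.1, x.2⟩
    exact congrArg Subtype.val this
  -- lifting multiplication by `a`
  let L : S →ₗ[R] R :=
    { toFun := fun s => a * Function.surjInv hsurj s
      map_add' := fun s t => by
        rw [← mul_add, ← sub_eq_zero, ← mul_sub]
        apply ha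
        simp [Function.surjInv_eq hsurj]
      map_smul' := fun r s => by
        rw [RingHom.id_apply, smul_eq_mul, mul_left_comm, ← sub_eq_zero, ← mul_sub]
        apply ha
        simp [Function.surjInv_eq hsurj, Algebra.smul_def] }
  obtain ⟨T, hT⟩ := ((Module.Invertible.linearEquiv S M).symm 1).exists_finset
  have hT1 : 1 = ∑ t ∈ T, t.1 t.2 := by
    simpa [LinearEquiv.symm_apply_eq, Module.Invertible.linearEquiv] using hT
  have hlift : ∀ m : M, ∃ x : J, toM x = m := by
    intro m
    obtain ⟨x, hx⟩ := hsurj (ψ m)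
    refine ⟨⟨x, ?_⟩, ?_⟩
    · exact ⟨m, hx.symm⟩
    · apply hψ; rw [htoM]; exact hx
  choose sect hsect using hlift
  obtain ⟨y, hy⟩ := hone
  have hj : (1 - a) ∈ J := ⟨y, by simp [← hy]⟩
  let f : Option T → Module.Dual R J := fun o => o.elim J.subtype
    fun t => L ∘ₗ (t.1.1.restrictScalars R) ∘ₗ toM
  let ee : Option T → J := fun o => o.elim ⟨1 - a, hj⟩ fun t => sect t.1.2
  have hsum : ∑ i, f i (ee i) = 1 := by
    rw [Fintype.sum_option]
    have h1 : ∑ t : T, f (some t) (ee (some t)) = L 1 := by
      rw [hT1, map_sum, ← Finset.sum_coe_sort T]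
      exact Finset.sum_congr rfl fun t _ => by simp [f, ee, hsect]
    rw [h1]
    show (1 - a) + a * Function.surjInv hsurj 1 = 1
    have : a * (Function.surjInv hsurj 1 - 1) = 0 := ha _ (by simp [Function.surjInv_eq hsurj])
    linear_combination this
  haveI hJ : Module.Invertible R J := invertible_ideal J f ee hsum
  refine ⟨J, hJ, ⟨LinearEquiv.ofBijective (LinearMap.liftBaseChange S toM) ?_⟩⟩
  apply Module.Invertible.bijective_of_surjective
  intro m
  exact ⟨1 ⊗ₜ sect m, by simp [hsect]⟩

theorem pic_map_surjective {R S : Type u} [CommRing R] [CommRing S] (π : R →+* S)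
    (hπ : Function.Surjective π) [Module.Finite ℤ S]
    {ι : Type w} (K : ι → Type*) [∀ i, Field (K i)] [∀ i, CharZero (K i)]
    (v : ∀ i, S →+* K i) (hv : ∀ s : S, (∀ i, v i s = 0) → s = 0)
    (a : R) (ha : ∀ x : R, π x = 0 → a * x = 0) (hne : ∀ i, v i (π a) ≠ 0) :
    Function.Surjective (CommRing.Pic.mapRingHom π) := by
  intro M
  letI := π.toAlgebra
  set b : S := π (2 * a) with hb
  have hbnd : ∀ s, b * s = 0 → s = 0 := fun s hs => hv s fun i => by
    have := congrArg (v i) hs
    rw [map_mul, map_zero, hb, map_mul π, map_mul, map_ofNat, map_ofNat] at this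
    rcases mul_eq_zero.mp this with h | h
    · rcases mul_eq_zero.mp h with h | h
      · exact absurd h two_ne_zero
      · exact absurd h (hne i)
    · exact h
  -- `S / b` is semilocal
  haveI hfin : Finite (S ⧸ Ideal.span {b}) := by
    rcases subsingleton_or_nontrivial S with hS | hS
    · exact Quot.finite _
    have hint : IsIntegral ℤ b := IsIntegral.of_finite ℤ b
    set f := minpoly ℤ b with hf
    have hc : f.coeff 0 ≠ 0 := by
      intro h0
      have hXg : f = Polynomial.X * f.divX := by
        conv_lhs => rw [← Polynomial.X_mul_divX_add f]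
        rw [h0, map_zero, add_zero]
      have hg : Polynomial.aeval b f.divX = 0 := by
        apply hbnd
        have := minpoly.aeval ℤ b
        rw [← hf, hXg, map_mul, Polynomial.aeval_X] at this
        exact this
      have hgm : f.divX.Monic :=
        Polynomial.Monic.of_mul_monic_left Polynomial.monic_X (hXg ▸ minpoly.monic hint)
      have hd : f.degree = (Polynomial.X : Polynomial ℤ).degree + f.divX.degree := by
        conv_lhs => rw [hXg]
        exact Polynomial.degree_mul
      have hle := minpoly.min ℤ b hgm hg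
      rw [← hf, hd, Polynomial.degree_X, Polynomial.degree_eq_natDegree hgm.ne_zero] at hle
      rw [show (1 : WithBot ℕ) = ((1 : ℕ) : WithBot ℕ) from rfl, ← Nat.cast_add, Nat.cast_le] at hle
      omega
    have hmem : ((f.coeff 0 : ℤ) : S) ∈ Ideal.span ({b} : Set S) := by
      have := minpoly.aeval ℤ b
      rw [← hf, ← Polynomial.X_mul_divX_add f, map_add, map_mul, Polynomial.aeval_X,
        Polynomial.aeval_C, algebraMap_int_eq, Int.coe_castRingHom] at this
      rw [Ideal.mem_span_singleton']
      exact ⟨-Polynomial.aeval b f.divX, by linear_combination -this⟩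
    haveI : Module.Finite ℤ (S ⧸ Ideal.span {b}) :=
      Module.Finite.of_surjective (Ideal.Quotient.mk (Ideal.span {b})).toAddMonoidHom.toIntLinearMap
        Ideal.Quotient.mk_surjective
    refine Module.finite_of_fg_torsion _ (fun {x} => ⟨⟨f.coeff 0, mem_nonZeroDivisors_of_ne_zero hc⟩, ?_⟩)
    obtain ⟨s, rfl⟩ := Ideal.Quotient.mk_surjective x
    show (f.coeff 0) • (Ideal.Quotient.mk (Ideal.span {b})) s = 0
    rw [zsmul_eq_mul, ← map_intCast (Ideal.Quotient.mk (Ideal.span {b})), ← map_mul,
      Ideal.Quotient.eq_zero_iff_mem]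
    exact Ideal.mul_mem_right _ _ hmem
  haveI : Finite (MaximalSpectrum (S ⧸ Ideal.span {b})) :=
    Finite.of_injective (fun P => P.asIdeal) fun P Q h => MaximalSpectrum.ext h
  obtain ⟨e⟩ := Module.Invertible.free_iff_linearEquiv.mp
    (inferInstance : Module.Free (S ⧸ Ideal.span {b}) ((S ⧸ Ideal.span {b}) ⊗[S] M.AsModule))
  let ψ0 : M.AsModule →ₗ[S] (S ⧸ Ideal.span {b}) :=
    (e.toLinearMap.restrictScalars S) ∘ₗ (TensorProduct.mk S (S ⧸ Ideal.span {b}) M.AsModule 1)
  obtain ⟨ψ, hψ⟩ := Module.projective_lifting_property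
    (Ideal.span {b} : Ideal S).mkQ ψ0 (Submodule.mkQ_surjective _)
  obtain ⟨y, hy⟩ : ∃ y, ψ y - 1 ∈ Ideal.span ({b} : Set S) := by
    obtain ⟨y, hy⟩ := TensorProduct.mk_surjective S M.AsModule (S ⧸ Ideal.span {b})
      Ideal.Quotient.mk_surjective (e.symm 1)
    refine ⟨y, ?_⟩
    rw [← Ideal.Quotient.eq_zero_iff_mem, map_sub, map_one, sub_eq_zero]
    have := LinearMap.congr_fun hψ y
    simp only [LinearMap.comp_apply] at this
    refine this.trans ?_
    show e (TensorProduct.mk S _ M.AsModule 1 y) = 1
    rw [hy, LinearEquiv.apply_symm_apply]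
  obtain ⟨r, hr⟩ := Ideal.mem_span_singleton'.mp hy
  obtain ⟨r0, rfl⟩ := hπ r
  have hyne : ∀ i, v i (ψ y) ≠ 0 := by
    intro i h0
    have h1 : (1 : K i) + 2 * v i (π (r0 * a)) = 0 := by
      rw [← h0, ← sub_add_cancel (ψ y) 1, ← hr, hb]
      simp only [map_add, map_mul, map_one, map_ofNat]
      ring
    have hint : IsIntegral ℤ (v i (π (r0 * a))) :=
      (IsIntegral.of_finite ℤ (π (r0 * a))).map (v i).toIntAlgHom
    have h2 : v i (π (r0 * a)) = algebraMap ℚ (K i) (-1 / 2) := by
      rw [eq_ratCast]; push_cast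
      field_simp
      linear_combination h1
    rw [h2, isIntegral_algebraMap_iff (algebraMap ℚ (K i)).injective] at hint
    obtain ⟨n, hn⟩ := IsIntegrallyClosed.isIntegral_iff.mp hint
    have : (n : ℚ) = -1 / 2 := hn
    have h3 : (2 * n : ℤ) = -1 := by
      have : ((2 * n : ℤ) : ℚ) = ((-1 : ℤ) : ℚ) := by push_cast; rw [this]; ring
      exact_mod_cast this
    omega
  have hψinj : Function.Injective ψ := by
    rw [injective_iff_map_eq_zero]
    intro x hx
    rw [← Module.forall_dual_apply_eq_zero_iff S x]
    intro φ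
    refine hv _ fun i => ?_
    have h1 : φ x * ψ y = φ y * ψ x := by
      have := congrArg (LinearMap.mul' S S ∘ₗ TensorProduct.map φ ψ)
        (Module.Invertible.tmul_comm (R := S) (m₁ := x) (m₂ := y))
      simpa using this
    rw [hx, mul_zero] at h1
    have := congrArg (v i) h1
    rw [map_mul, map_zero] at this
    exact (mul_eq_zero.mp this).resolve_right (hyne i)
  obtain ⟨J, hJ, ⟨θ⟩⟩ := exists_preimage (R := R) (S := S) hπ (-(2 * a * r0))
    (fun x hx => by
      have h0 : a * x = 0 := ha x (by simpa [RingHom.algebraMap_toAlgebra] using hx)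
      linear_combination (-2 * r0) * h0)
    M.AsModule ψ hψinj
    ⟨y, by
      rw [RingHom.algebraMap_toAlgebra, map_neg, map_mul]
      linear_combination -hr⟩
  refine ⟨CommRing.Pic.mk R J, ?_⟩
  show CommRing.Pic.mapAlgebra R S (CommRing.Pic.mk R J) = M
  rw [CommRing.Pic.mapAlgebra_apply, CommRing.Pic.mk_eq_iff]
  exact ⟨(TensorProduct.AlgebraTensorModule.congr (LinearEquiv.refl S S)
    (CommRing.Pic.mk.linearEquiv R J)).trans θ⟩

end Groth.Agent.WeilKerLib
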